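import Mathlib
import Cfsg.Agent.Lib.Involutions.Basic
import Cfsg.Agent.Lib.MixedPQ.Basic

/-!
# π-homogeneous groups with 2-closed π-subgroups: basics

`Hyp π G`: every π-subgroup is 2-closed and is centralised by the π'-elements normalising it.
`ClosedIn π H`: the π'-elements of `H` form a subgroup.
-/

set_option autoImplicit false
set_option linter.unusedSectionVars false
set_option linter.style.haveILetI false

namespace Cfsg.Agent.Lib.PiHomog3258

open Subgroup

universe u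

variable {G : Type u} [Group G]

/-- All prime divisors lie in `π`. -/
def PiNum (π : Set ℕ) (n : ℕ) : Prop :=
  ∀ p : ℕ, p.Prime → p ∣ n → p ∈ π

/-- All prime divisors of the order of `x` lie outside `π`. -/
def PiP (π : Set ℕ) (x : G) : Prop :=
  ∀ p : ℕ, p.Prime → p ∣ orderOf x → p ∉ π

structure Hyp (π : Set ℕ) (G : Type u) [Group G] : Prop where
  two : 2 ∈ π
  closed : ∀ H : Subgroup G, PiNum π (Nat.card ↥H) → ∀ P : Sylow 2 ↥H, (P : Subgroup ↥H).Normal
  homog : ∀ H : Subgroup G, PiNum π (Nat.card ↥H) → ∀ x : G, PiP π x →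
    x ∈ normalizer (H : Set G) → x ∈ centralizer (H : Set G)

/-- The π'-elements of `H` form a subgroup. -/
def ClosedIn (π : Set ℕ) (H : Subgroup G) : Prop :=
  ∃ K : Subgroup G, ∀ x : G, x ∈ K ↔ x ∈ H ∧ PiP π x

variable {π : Set ℕ}

theorem piNum_of_dvd {m n : ℕ} (h : m ∣ n) (hn : PiNum π n) : PiNum π m :=
  fun p hp hd => hn p hp (hd.trans h)

theorem piNum_pow {p : ℕ} (hp : p.Prime) (hpπ : p ∈ π) (k : ℕ) : PiNum π (p ^ k) :=
  fun _ hq hd => ((Nat.prime_dvd_prime_iff_eq hq hp).1 (hq.dvd_of_dvd_pow hd)) ▸ hpπ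

theorem piNum_mul {m n : ℕ} (hm : PiNum π m) (hn : PiNum π n) : PiNum π (m * n) :=
  fun p hp hd => ((Nat.Prime.dvd_mul hp).1 hd).elim (hm p hp) (hn p hp)

theorem coprime_piNum {m n : ℕ} (hm : PiNum π m) (hn : ∀ p : ℕ, p.Prime → p ∣ n → p ∉ π) :
    Nat.Coprime m n :=
  Nat.coprime_of_dvd fun p hp h1 h2 => hn p hp h2 (hm p hp h1)

theorem piP_one : PiP π (1 : G) := fun p hp hd => by
  rw [orderOf_one, Nat.dvd_one] at hd
  exact absurd hd hp.ne_one

theorem piP_of_dvd {K : Type*} [Group K] {x : G} {y : K} (h : orderOf y ∣ orderOf x)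
    (hx : PiP π x) : PiP π y :=
  fun p hp hd => hx p hp (hd.trans h)

theorem piP_conj {x : G} (g : G) (hx : PiP π x) : PiP π (g * x * g⁻¹) :=
  piP_of_dvd (Involutions.Basic.orderOf_conj_eq g x).dvd hx

theorem eq_one_of_piP {x : G} (hx : PiP π x) (hn : PiNum π (orderOf x)) : x = 1 :=
  orderOf_eq_one_iff.1 ((Nat.coprime_self _).1 (coprime_piNum hn hx))

theorem eq_one_of_piP_of_mem [Finite G] {x : G} {H : Subgroup G} (hx : PiP π x) (hxH : x ∈ H)
    (hH : PiNum π (Nat.card ↥H)) : x = 1 :=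
  eq_one_of_piP hx (piNum_of_dvd (orderOf_dvd_natCard H hxH) hH)

/-- A subgroup consisting of π'-elements has π'-order. -/
theorem not_mem_of_dvd_card [Finite G] {K : Subgroup G} (hK : ∀ x ∈ K, PiP π x) :
    ∀ p : ℕ, p.Prime → p ∣ Nat.card ↥K → p ∉ π := fun p hp hd => by
  haveI := Fact.mk hp
  obtain ⟨x, hx⟩ := exists_prime_orderOf_dvd_card' (G := ↥K) p hd
  exact hK _ x.2 p hp (by rw [Subgroup.orderOf_coe, hx])

theorem odd_of_piP [Finite G] (h2 : 2 ∈ π) {x : G} (hx : PiP π x) : Odd (orderOf x) :=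
  Nat.odd_iff.2 <| Nat.two_dvd_ne_zero.1 fun h => hx 2 Nat.prime_two h h2

theorem exists_split (π : Set ℕ) {n : ℕ} (hn : n ≠ 0) :
    ∃ a b : ℕ, n = a * b ∧ PiNum π a ∧ ∀ p : ℕ, p.Prime → p ∣ b → p ∉ π := by
  classical
  have hne : (n.divisors.filter fun d => PiNum π d).Nonempty :=
    ⟨1, Finset.mem_filter.2 ⟨Nat.one_mem_divisors.2 hn,
      fun p hp hd => absurd (Nat.dvd_one.1 hd) hp.ne_one⟩⟩
  obtain ⟨a, ha, hmax⟩ := Finset.exists_max_image _ (fun d : ℕ => d) hne
  obtain ⟨had, haπ⟩ := Finset.mem_filter.1 ha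
  obtain ⟨⟨b, hb⟩, -⟩ := Nat.mem_divisors.1 had
  refine ⟨a, b, hb, haπ, fun p hp hpb hpπ => ?_⟩
  have ha0 : 0 < a := Nat.pos_of_mem_divisors had
  have h1 := hmax (a * p) (Finset.mem_filter.2 ⟨Nat.mem_divisors.2
    ⟨hb ▸ Nat.mul_dvd_mul_left a hpb, hn⟩, piNum_mul haπ (by simpa using piNum_pow hp hpπ 1)⟩)
  exact absurd h1 (not_le.2 (lt_mul_of_one_lt_right ha0 hp.one_lt))

/-- Every element has a power whose order is a π'-number and which has the same image as far as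
π'-images are concerned. -/
theorem exists_piP_pow [Finite G] (π : Set ℕ) (g : G) :
    ∃ a : ℕ, PiNum π a ∧ PiP π (g ^ a) ∧
      ∀ {K : Type u} [Group K] (f : G →* K), PiP π (f g) → ∃ c : ℕ, f g = f (g ^ a) ^ c := by
  obtain ⟨a, b, hn, ha, hb⟩ := exists_split π (orderOf_pos g).ne'
  have hg : orderOf (g ^ a) = b := by
    rw [orderOf_pow_of_dvd (fun h => (orderOf_pos g).ne' (by rw [hn, h, zero_mul]))
      ⟨b, hn⟩, hn, Nat.mul_div_cancel_left _ (Nat.pos_of_ne_zero fun h =>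
        (orderOf_pos g).ne' (by rw [hn, h, zero_mul]))]
  refine ⟨a, ha, fun p hp hd => hb p hp (hg ▸ hd), fun f hf => ?_⟩
  obtain ⟨c, hc⟩ := exists_pow_eq_self_of_coprime (n := a) (x := f g)
    (coprime_piNum ha hf)
  exact ⟨c, by rw [map_pow]; exact hc.symm⟩

namespace Hyp

variable (h : Hyp π G)
include h

theorem commute {H : Subgroup G} (hH : PiNum π (Nat.card ↥H)) {x y : G} (hx : PiP π x)
    (hn : x ∈ normalizer (H : Set G)) (hy : y ∈ H) : y * x = x * y :=
  mem_centralizer_iff.1 (h.homog H hH x hx hn) y hy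

/-- An element of odd order inverted by an involution is a π'-element. -/
theorem piP_of_inverted [Finite G] {t d : G} (ht : orderOf t = 2) (hd : Odd (orderOf d))
    (hinv : t * d * t⁻¹ = d⁻¹) : PiP π d := by
  intro p hp hpd hpπ
  haveI := Fact.mk hp
  have hp2 : p ≠ 2 := by
    rintro rfl
    exact (Nat.not_even_iff_odd.2 hd) (even_iff_two_dvd.2 hpd)
  set e := d ^ (orderOf d / p) with he
  have heo : orderOf e = p := orderOf_pow_orderOf_div (orderOf_pos d).ne' hpd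
  have heinv : t * e * t⁻¹ = e⁻¹ := by
    rw [he, ← conj_pow, hinv, inv_pow]
  set E := zpowers e with hE
  have htE : zpowers t ≤ normalizer (E : Set G) := by
    refine zpowers_le.2 (mem_normalizer_iff.2 fun x => ?_)
    have hone : ∀ x ∈ E, t * x * t⁻¹ ∈ E := fun x hx => by
      obtain ⟨k, rfl⟩ := mem_zpowers_iff.1 hx
      rw [← conj_zpow, heinv]
      exact zpow_mem (inv_mem (mem_zpowers e)) k
    refine ⟨hone x, fun hx => ?_⟩
    have h2 := hone _ hx
    have htt := Involutions.Basic.invol_mul_self ht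
    rwa [Involutions.Basic.invol_inv ht,
      show t * (t * x * t) * t = (t * t) * x * (t * t) by group, htt, one_mul, mul_one] at h2
  set X := zpowers t ⊔ E with hX
  have hcard : PiNum π (Nat.card ↥X) := by
    have h1 := MixedPQ.card_sup_zpowers_dvd (K := E) (htE (mem_zpowers t))
    rw [hE, Nat.card_zpowers, ht, heo] at h1
    exact piNum_of_dvd h1 (piNum_mul (by simpa using piNum_pow Nat.prime_two h.two 1)
      (by simpa using piNum_pow hp hpπ 1))
  have htX : t ∈ X := mem_sup_left (mem_zpowers t)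
  have heX : e ∈ X := mem_sup_right (mem_zpowers e)
  have htp : IsPGroup 2 ↥(zpowers (⟨t, htX⟩ : ↥X)) :=
    IsPGroup.of_card (n := 1) (by rw [Nat.card_zpowers, Subgroup.orderOf_mk, ht, pow_one])
  obtain ⟨P, hP⟩ := htp.exists_le_sylow
  haveI := h.closed X hcard P
  have ht' : (⟨t, htX⟩ : ↥X) ∈ (P : Subgroup ↥X) := hP (mem_zpowers _)
  have h2 : (⟨t, htX⟩ : ↥X) * ⟨e, heX⟩ * (⟨t, htX⟩ : ↥X)⁻¹ * (⟨e, heX⟩ : ↥X)⁻¹ ∈
      (P : Subgroup ↥X) := by
    rw [mul_assoc (⟨t, htX⟩ : ↥X), mul_assoc (⟨t, htX⟩ : ↥X)]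
    exact mul_mem ht' (Normal.conj_mem inferInstance _ (inv_mem ht') _)
  obtain ⟨k, hk⟩ := P.isPGroup' ⟨_, h2⟩
  have h3 : ((e⁻¹ * e⁻¹ : G)) ^ 2 ^ k = 1 := by
    have := congrArg (fun z : ↥(P : Subgroup ↥X) => ((z : ↥X) : G)) hk
    simpa [heinv] using this
  have h4 : orderOf e ∣ 2 * 2 ^ k := by
    rw [orderOf_dvd_iff_pow_eq_one]
    rw [← pow_two, ← pow_mul, inv_pow, inv_eq_one] at h3
    exact h3
  rw [heo, ← pow_succ'] at h4
  exact hp2 ((Nat.prime_dvd_prime_iff_eq hp Nat.prime_two).1 (hp.dvd_of_dvd_pow h4))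

theorem subgroup [Finite G] (H : Subgroup G) : Hyp π ↥H := by
  refine ⟨h.two, fun L hL P => ?_, fun L hL x hx hn => ?_⟩
  · have e := L.equivMapOfInjective H.subtype H.subtype_injective
    have h1 := h.closed (L.map H.subtype)
      (by rwa [← Nat.card_congr e.toEquiv])
      (P.mapSurjective (f := e.toMonoidHom) e.surjective)
    have h2 : (((P : Subgroup ↥L).map e.toMonoidHom).comap e.toMonoidHom).Normal :=
      Normal.comap h1 e.toMonoidHom
    rwa [comap_map_eq_self_of_injective e.injective] at h2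
  · have h1 : (x : G) ∈ centralizer ((L.map H.subtype : Subgroup G) : Set G) := by
      refine h.homog _ ?_ _ (piP_of_dvd (Subgroup.orderOf_coe x).dvd hx) ?_
      · rwa [← Nat.card_congr (L.equivMapOfInjective H.subtype H.subtype_injective).toEquiv]
      · have h2 := le_normalizer_map (H.subtype) (mem_map_of_mem H.subtype hn)
        simpa using h2
    rw [mem_centralizer_iff] at h1 ⊢
    exact fun y hy => Subtype.ext (h1 _ ⟨y, hy, rfl⟩)

end Hyp

namespace ClosedIn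

variable [Finite G] {H : Subgroup G}

theorem of_top (h : ClosedIn π (⊤ : Subgroup ↥H)) : ClosedIn π H := by
  obtain ⟨K, hK⟩ := h
  refine ⟨K.map H.subtype, fun x => ?_⟩
  constructor
  · rintro ⟨y, hy, rfl⟩
    exact ⟨y.2, piP_of_dvd (Subgroup.orderOf_coe y).dvd ((hK y).1 hy).2⟩
  · rintro ⟨hx, hx'⟩
    exact ⟨⟨x, hx⟩, (hK _).2 ⟨mem_top _, piP_of_dvd (Subgroup.orderOf_mk x hx).dvd hx'⟩, rfl⟩

end ClosedIn

end Cfsg.Agent.Lib.PiHomog3258
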