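import Cfsg.Agent.Lib.PiHomog3258.Reduction
import Cfsg.Agent.Lib.PSolvable.Basic
import Cfsg.Agent.Lib.ZStar.UniqueCase
import Cfsg.Agent.Lib.BenderDeps.Consumers

/-!
# Local facts in a minimal π-homogeneous counterexample
-/

set_option autoImplicit false
set_option linter.unusedSectionVars false
set_option linter.style.haveILetI false

namespace Cfsg.Agent.Lib.PiHomog3258

open Subgroup

universe u

variable {G : Type u} [Group G] [Finite G] {π : Set ℕ}

namespace Min

variable (h : Min π G)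
include h

theorem normal_eq (N : Subgroup G) [N.Normal] : N = ⊥ ∨ N = ⊤ :=
  haveI := h.simple
  IsSimpleGroup.eq_bot_or_eq_top_of_normal N ‹_›

theorem center_eq_bot : center G = ⊥ := by
  rcases h.normal_eq (center G) with h1 | h1
  · exact h1
  · exact (h.nonab fun a b => (mem_center_iff.1 (h1 ▸ mem_top b : b ∈ center G) a)).elim

theorem index_ne_two (N : Subgroup G) : N.index ≠ 2 := by
  intro hN
  haveI := normal_of_index_eq_two hN
  rcases h.normal_eq N with h1 | h1
  · refine h.nonab fun a b => ?_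
    haveI : Fact (Nat.Prime 2) := ⟨Nat.prime_two⟩
    have h2 : Nat.card G = 2 := by
      rw [← N.card_mul_index, hN, h1, card_bot, one_mul]
    haveI := isCyclic_of_prime_card h2
    letI := IsCyclic.commGroup (α := G)
    exact mul_comm a b
  · rw [h1, index_top] at hN
    exact absurd hN (by omega)

theorem two_dvd_card : 2 ∣ Nat.card G := by
  by_contra h2
  haveI := h.simple
  haveI : Group.IsSolvable G := BenderDeps.Consumers.oddOrderSolvable G
    (Nat.odd_iff.2 (Nat.two_dvd_ne_zero.1 h2))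
  exact h.nonab fun a b => IsSimpleGroup.comm_iff_isSolvable.2 ‹_› a b

theorem ne_top_of_isPGroup {P : Subgroup G} (hP : IsPGroup 2 ↥P) : P ≠ ⊤ := by
  intro h1
  subst h1
  haveI : Fact (Nat.Prime 2) := ⟨Nat.prime_two⟩
  haveI : Group.IsNilpotent ↥(⊤ : Subgroup G) := hP.isNilpotent
  haveI : Group.IsSolvable G := Group.isSolvable_of_surjective
    (f := (Subgroup.topEquiv : (⊤ : Subgroup G) ≃* G).toMonoidHom) Subgroup.topEquiv.surjective
  haveI := h.simple
  exact h.nonab fun a b => IsSimpleGroup.comm_iff_isSolvable.2 ‹_› a b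

theorem normalizer_ne_top {D : Subgroup G} (hD : IsPGroup 2 ↥D) (hne : D ≠ ⊥) :
    normalizer (D : Set G) ≠ ⊤ := by
  intro h1
  haveI := normalizer_eq_top_iff.1 h1
  rcases h.normal_eq D with h2 | h2
  · exact hne h2
  · exact h.ne_top_of_isPGroup hD h2

theorem centralizer_ne_top {t : G} (ht : t ≠ 1) : centralizer ({t} : Set G) ≠ ⊤ := by
  intro h1
  have : t ∈ center G := mem_center_iff.2 fun g =>
    mem_centralizer_singleton_iff.1 (h1 ▸ mem_top g : g ∈ centralizer ({t} : Set G))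
  rw [h.center_eq_bot, mem_bot] at this
  exact ht this

/-- An isolated involution is impossible. -/
theorem false_of_isolated (P : Sylow 2 G) {t : G} (ht : orderOf t = 2) (htP : t ∈ P)
    (hiso : ∀ g : G, g * t * g⁻¹ ∈ P → g * t * g⁻¹ = t) : False := by
  obtain ⟨N, hN, hodd, hmem⟩ := ZStar.UniqueCase.zstar P t ht htP hiso
  haveI := hN
  rcases h.normal_eq N with h1 | h1
  · refine h.centralizer_ne_top (t := t) (fun h2 => by rw [h2, orderOf_one] at ht; omega)
      (eq_top_iff.2 fun g _ => mem_centralizer_singleton_iff.2 ?_)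
    have h2 := hmem g
    rw [h1, mem_bot, mul_inv_eq_one, mul_inv_eq_iff_eq_mul] at h2
    exact h2.symm
  · rw [h1, card_top] at hodd
    exact (Nat.not_even_iff_odd.2 hodd) (even_iff_two_dvd.2 h.two_dvd_card)

/-- Elements of a 2-subgroup conjugate under the π'-core are equal. -/
theorem eq_of_conj_core {H K S : Subgroup G} (hK : ∀ x, x ∈ K ↔ x ∈ H ∧ PiP π x)
    (hSH : S ≤ H) (hS : IsPGroup 2 ↥S) {k s : G} (hk : k ∈ K) (hs : s ∈ S)
    (ht : k * s * k⁻¹ ∈ S) : k * s * k⁻¹ = s := by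
  have h1 : s * k⁻¹ * s⁻¹ ∈ K :=
    (hK _).2 ⟨mul_mem (mul_mem (hSH hs) (inv_mem ((hK k).1 hk).1)) (inv_mem (hSH hs)),
      piP_conj s (piP_of_dvd (orderOf_inv k).dvd ((hK k).1 hk).2)⟩
  have h2 : k * s * k⁻¹ * s⁻¹ ∈ K := by
    have := mul_mem hk h1
    simpa [mul_assoc] using this
  have h3 := eq_one_of_piP_of_mem ((hK _).1 h2).2 (mul_mem ht (inv_mem hs)) (by
    obtain ⟨n, hn⟩ := IsPGroup.iff_card.1 hS
    rw [hn]
    exact piNum_pow Nat.prime_two h.hyp.two n)
  exact mul_inv_eq_one.1 h3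

/-- A proper subgroup with trivial π'-core is 2-closed. -/
theorem normal_sylow_of_core_eq_bot {H : Subgroup G} (hH : H ≠ ⊤)
    (hbot : ∀ x ∈ H, PiP π x → x = 1) (P : Sylow 2 ↥H) : (P : Subgroup ↥H).Normal := by
  obtain ⟨K, hK⟩ := h.proper H hH
  refine h.hyp.closed H ?_ P
  have h1 : K = ⊥ := by
    rw [eq_bot_iff]
    exact fun x hx => mem_bot.2 (hbot x ((hK x).1 hx).1 ((hK x).1 hx).2)
  have h2 := ClosedIn.piNum_relIndex hK
  rwa [h1, relIndex_bot_left] at h2

theorem isPSolvable {H : Subgroup G} (hH : H ≠ ⊤) : Cfsg.IsPSolvable 2 ↥H := by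
  haveI : Fact (Nat.Prime 2) := ⟨Nat.prime_two⟩
  obtain ⟨K, hK⟩ := h.proper H hH
  set N := K.subgroupOf H with hN
  haveI hNn : N.Normal := ⟨fun x hx g => by
    rw [hN, mem_subgroupOf] at hx ⊢
    exact (hK _).2 ⟨(g * x * g⁻¹).2, by
      push_cast
      exact piP_conj (g : G) ((hK _).1 hx).2⟩⟩
  have hNp : ∀ x ∈ N, PiP π x := fun x hx =>
    piP_of_dvd (Subgroup.orderOf_coe x).symm.dvd ((hK _).1 hx).2
  refine PSolvable.isPSolvable_of_extension N (PSolvable.isPSolvable_of_coprime ?_) ?_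
  · exact ((Nat.Prime.coprime_iff_not_dvd Nat.prime_two).2 fun h2 =>
      not_mem_of_dvd_card hNp 2 Nat.prime_two h2 h.hyp.two).symm
  · have hQ := (h.hyp.subgroup H).quotient N hNp
    have hπ : PiNum π (Nat.card (↥H ⧸ N)) := by
      rw [← index_eq_card]
      exact ClosedIn.piNum_relIndex hK
    obtain ⟨P⟩ : Nonempty (Sylow 2 (↥H ⧸ N)) := inferInstance
    haveI : (P : Subgroup (↥H ⧸ N)).Normal := by
      have e := (Subgroup.topEquiv : (⊤ : Subgroup (↥H ⧸ N)) ≃* _)
      exact sylow_normal_of_surjective e.toMonoidHom e.surjective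
        (hQ.closed ⊤ (by rwa [card_top])) P
    refine PSolvable.isPSolvable_of_extension (P : Subgroup (↥H ⧸ N))
      (PSolvable.isPSolvable_of_isPGroup P.isPGroup') (PSolvable.isPSolvable_of_coprime ?_)
    rw [← index_eq_card]
    exact ((Nat.Prime.coprime_iff_not_dvd Nat.prime_two).2 P.not_dvd_index).symm

end Min

end Cfsg.Agent.Lib.PiHomog3258
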