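import Cfsg.Agent.Lib.PiHomog3258.Local
import Cfsg.Agent.Lib.Fusion.Swappers
import Cfsg.Agent.Lib.Dichotomy34.Main

/-!
# No strongly embedded subgroup; trivial cores and 2-rank at least three are impossible
-/

set_option autoImplicit false
set_option linter.unusedSectionVars false
set_option linter.style.haveILetI false

namespace Cfsg.Agent.Lib.PiHomog3258

open Subgroup
open Cfsg.Agent.Lib.Involutions

universe u

variable {G : Type u} [Group G] [Finite G] {π : Set ℕ}

/-- A non-trivial element of a 2-group has an involution as a power. -/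
theorem exists_invol_of_ne_bot {D : Subgroup G} (hD : IsPGroup 2 ↥D) (hne : D ≠ ⊥) :
    ∃ r ∈ D, orderOf r = 2 := by
  haveI : Fact (Nat.Prime 2) := ⟨Nat.prime_two⟩
  obtain ⟨n, hn⟩ := IsPGroup.iff_card.1 hD
  have h1 : 2 ∣ Nat.card ↥D := by
    rcases Nat.eq_zero_or_pos n with h0 | h0
    · exact absurd (D.eq_bot_of_card_eq (by rw [hn, h0, pow_zero])) hne
    · rw [hn]; exact dvd_pow_self 2 h0.ne'
  obtain ⟨r, hr⟩ := exists_prime_orderOf_dvd_card' (G := ↥D) 2 h1
  exact ⟨r, r.2, by rw [Subgroup.orderOf_coe, hr]⟩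

theorem mem_sylow_of_mem_normalizer [Fact (Nat.Prime 2)] (P : Sylow 2 G) {t : G}
    (ht : orderOf t = 2) (hn : t ∈ normalizer ((P : Subgroup G) : Set G)) : t ∈ (P : Subgroup G) := by
  have h1 : IsPGroup 2 ↥(zpowers t) :=
    IsPGroup.of_card (n := 1) (by rw [Nat.card_zpowers, ht, pow_one])
  have h2 := h1.inf_normalizer_sylow P
  have h3 : t ∈ zpowers t ⊓ normalizer ((P : Subgroup G) : Set G) := ⟨mem_zpowers t, hn⟩
  exact (h2.le h3).2

namespace Min

variable (h : Min π G)
include h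

/-- A minimal counterexample has no strongly embedded subgroup. -/
theorem false_of_stronglyEmbedded {H : Subgroup G} (hH : Cfsg.IsStronglyEmbedded H) : False := by
  haveI : Fact (Nat.Prime 2) := ⟨Nat.prime_two⟩
  obtain ⟨b, hb, hbH⟩ := Fusion.Swappers.exists_invol_mem hH
  obtain ⟨P, hP⟩ := (IsPGroup.of_card (n := 1)
    (by rw [Nat.card_zpowers, hb, pow_one] : Nat.card ↥(zpowers b) = 2 ^ 1)).exists_le_sylow
  have hbP : b ∈ (P : Subgroup G) := hP (mem_zpowers b)
  haveI : Nontrivial ↥(P : Subgroup G) :=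
    ⟨⟨⟨b, hbP⟩, 1, fun h1 => by
      have h2 : b = 1 := congrArg Subtype.val h1
      rw [h2, orderOf_one] at hb
      omega⟩⟩
  obtain ⟨z₀, hz₀, hz⟩ := exists_invol_of_ne_bot
    ((P.isPGroup'.to_subgroup (center ↥(P : Subgroup G))).map (P : Subgroup G).subtype)
    (fun h1 => (Subgroup.nontrivial_iff_ne_bot _).1 P.isPGroup'.center_nontrivial
      ((map_eq_bot_iff_of_injective _ (P : Subgroup G).subtype_injective).1 h1))
  obtain ⟨z', hz', rfl⟩ := hz₀
  set z : G := (P : Subgroup G).subtype z' with hzdef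
  have hzP : z ∈ (P : Subgroup G) := z'.2
  have hzc : ∀ s ∈ (P : Subgroup G), s * z = z * s := fun s hs =>
    congrArg Subtype.val (mem_center_iff.1 hz' ⟨s, hs⟩)
  have hzH : z ∈ H := StronglyEmbedded.centralizer_le hH hb hbH
    (mem_centralizer_singleton_iff.2 (hzc b hbP).symm)
  have hPH : (P : Subgroup G) ≤ H := fun s hs =>
    StronglyEmbedded.centralizer_le hH hz hzH (mem_centralizer_singleton_iff.2 (hzc s hs))
  obtain ⟨g, hg⟩ := not_forall.1 (fun h1 : ∀ g, g ∈ H => hH.1 (eq_top_iff.2 fun x _ => h1 x))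
  obtain ⟨u, hu⟩ : ∃ u, u = g * z * g⁻¹ := ⟨_, rfl⟩
  have huo : orderOf u = 2 := by rw [hu]; exact (Basic.orderOf_conj_eq g z).trans hz
  have huH : u ∉ H := fun h1 => hg (StronglyEmbedded.mem_of_conj_mem hH hz hzH (hu ▸ h1))
  obtain ⟨K, hK⟩ := h.proper H hH.1
  have huu := Basic.invol_mul_self huo
  have hone : ∀ t ∈ (P : Subgroup G), orderOf t = 2 → t = z := by
    intro t htP ht
    obtain ⟨⟨w, hw, hwu⟩, hwt⟩ :=
      Fusion.Swappers.swapMap_surjective hH huH hz hzH ⟨t, ht, hPH htP⟩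
    have hwt' : w⁻¹ * (u * z * u⁻¹) * w = t := congrArg Subtype.val hwt
    rw [Fusion.Swappers.smul_one_coset, QuotientGroup.eq, Basic.invol_inv hw] at hwu
    have hj : u * w ∈ H := by
      have := inv_mem hwu
      rwa [mul_inv_rev, Basic.invol_inv huo, Basic.invol_inv hw] at this
    have hinv : u * (u * w) * u⁻¹ = (u * w)⁻¹ := by
      rw [← mul_assoc, huu, one_mul, mul_inv_rev, Basic.invol_inv hw, Basic.invol_inv huo]
    have hodd : Odd (orderOf (u * w)) := by
      refine (hH.2.2 u huH).of_dvd_nat (orderOf_dvd_natCard _ (mem_inf.2 ⟨hj, ?_⟩))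
      refine StronglyEmbedded.mem_conj_iff.2 ?_
      rw [Basic.invol_inv huo]
      have h1 : u * (u * w) * u = (u * w)⁻¹ := by rwa [Basic.invol_inv huo] at hinv
      rw [h1]
      exact inv_mem hj
    have hk : (u * w)⁻¹ ∈ K := inv_mem ((hK _).2 ⟨hj, h.hyp.piP_of_inverted huo hodd hinv⟩)
    have ht' : (u * w)⁻¹ * z * ((u * w)⁻¹)⁻¹ = t := by
      rw [← hwt', mul_inv_rev, Basic.invol_inv hw, Basic.invol_inv huo]
      simp [mul_assoc, Basic.invol_inv hw, Basic.invol_inv huo]
    rw [← ht']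
    exact h.eq_of_conj_core hK hPH P.isPGroup' hk hzP (ht'.symm ▸ htP)
  exact h.false_of_isolated P hz hzP fun x hx =>
    hone _ hx ((Basic.orderOf_conj_eq x z).trans hz)

/-- If all cores of involution centralisers are trivial, the Sylow 2-subgroups are TI. -/
theorem false_of_cores (hcores : ∀ t : G, orderOf t = 2 → centralizerPPrimeCore 2 t = ⊥) :
    False := by
  haveI : Fact (Nat.Prime 2) := ⟨Nat.prime_two⟩
  have hlocal : ∀ r : G, orderOf r = 2 → ∀ x : G, x ∈ centralizer ({r} : Set G) → PiP π x →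
      x = 1 := by
    intro r hr x hx hxp
    set C := centralizer ({r} : Set G) with hCdef
    obtain ⟨K, hK⟩ := h.proper C (h.centralizer_ne_top fun h1 => by
      rw [h1, orderOf_one] at hr; omega)
    haveI : (K.subgroupOf C).Normal := ⟨fun y hy g => by
      rw [mem_subgroupOf] at hy ⊢
      exact (hK _).2 ⟨(g * y * g⁻¹).2, by
        push_cast
        exact piP_conj (g : G) ((hK _).1 hy).2⟩⟩
    have hcop : (Nat.card ↥(K.subgroupOf C)).Coprime 2 :=
      ((Nat.Prime.coprime_iff_not_dvd Nat.prime_two).2 fun h2 =>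
        not_mem_of_dvd_card (π := π) (fun y (hy : y ∈ K.subgroupOf C) =>
          piP_of_dvd (Subgroup.orderOf_coe y).symm.dvd ((hK _).1 hy).2)
          2 Nat.prime_two h2 h.hyp.two).symm
    have hmem : (⟨x, hx⟩ : ↥C) ∈ pPrimeCore 2 ↥C :=
      le_sSup (show K.subgroupOf C ∈ {N : Subgroup ↥C | N.Normal ∧ (Nat.card N).Coprime 2} from
        ⟨‹_›, hcop⟩) (mem_subgroupOf.2 ((hK x).2 ⟨hx, hxp⟩))
    have h0 := hcores r hr
    unfold centralizerPPrimeCore at h0
    have h1 : x ∈ (⊥ : Subgroup G) := h0 ▸ mem_map_of_mem C.subtype hmem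
    exact mem_bot.1 h1
  -- the Sylow 2-subgroups intersect trivially
  have hTI : ∀ P Q : Sylow 2 G, (P : Subgroup G) ⊓ Q ≠ ⊥ → P = Q := by
    by_contra hneg
    push Not at hneg
    obtain ⟨D, hD⟩ := Set.Finite.exists_maximal
      (Set.toFinite {D : Subgroup G | ∃ P Q : Sylow 2 G, (P : Subgroup G) ⊓ Q ≠ ⊥ ∧ P ≠ Q ∧
        D = (P : Subgroup G) ⊓ Q}) (by
      obtain ⟨P, Q, h1, h2⟩ := hneg
      exact ⟨_, P, Q, h1, h2, rfl⟩)
    obtain ⟨P, Q, hne, hPQ, rfl⟩ := hD.prop
    have hD2 : IsPGroup 2 ↥((P : Subgroup G) ⊓ Q) := P.isPGroup'.to_le inf_le_left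
    set N := normalizer (((P : Subgroup G) ⊓ Q : Subgroup G) : Set G) with hNdef
    have hN : N ≠ ⊤ := h.normalizer_ne_top hD2 hne
    obtain ⟨r, hr, hro⟩ := exists_invol_of_ne_bot hD2 hne
    have hbot : ∀ x ∈ N, PiP π x → x = 1 := fun x hx hxp => hlocal r hro x
      (mem_centralizer_singleton_iff.2 (h.hyp.commute (by
        obtain ⟨n, hn⟩ := IsPGroup.iff_card.1 hD2
        rw [hn]; exact piNum_pow Nat.prime_two h.hyp.two n) hxp hx hr).symm) hxp
    obtain ⟨R₀⟩ : Nonempty (Sylow 2 ↥N) := inferInstance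
    haveI := h.normal_sylow_of_core_eq_bot hN hbot R₀
    obtain ⟨T, hT⟩ := (R₀.isPGroup'.map N.subtype).exists_le_sylow
    have hkey : ∀ X : Sylow 2 G, (P : Subgroup G) ⊓ Q < X → T = X := by
      intro X hlt
      by_contra hTX
      set D := (P : Subgroup G) ⊓ Q with hDdef
      -- the normalizer of `D` in `X` is larger than `D`
      have h1 : D < (X : Subgroup G) ⊓ N := by
        haveI : Group.IsNilpotent ↥(X : Subgroup G) := X.isPGroup'.isNilpotent
        have hlt' : D.subgroupOf (X : Subgroup G) < ⊤ := lt_top_iff_ne_top.2 fun h2 =>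
          hlt.not_ge ((subgroupOf_eq_top.1 h2))
        have h3 := normalizerCondition_of_isNilpotent _ hlt'
        refine lt_of_le_of_ne (le_inf hlt.le le_normalizer) fun h4 => h3.not_ge ?_
        intro x hx
        rw [mem_subgroupOf]
        rw [h4]
        refine ⟨x.2, ?_⟩
        have h5 := le_normalizer_map (X : Subgroup G).subtype (mem_map_of_mem _ hx)
        rwa [map_subgroupOf_eq_of_le hlt.le] at h5
      have h2 : (X : Subgroup G) ⊓ N ≤ (T : Subgroup G) := by
        intro x hx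
        have hx2 : IsPGroup 2 ↥(((X : Subgroup G) ⊓ N).subgroupOf N) :=
          (X.isPGroup'.to_le inf_le_left).of_equiv (subgroupOfEquivOfLe inf_le_right).symm
        obtain ⟨Q', hQ'⟩ := hx2.exists_le_sylow
        haveI := Sylow.unique_of_normal R₀ ‹_›
        rw [Subsingleton.elim Q' R₀] at hQ'
        exact hT ⟨⟨x, hx.2⟩, hQ' (mem_subgroupOf.2 hx), rfl⟩
      exact (h1.trans_le (le_inf h2 inf_le_left)).not_ge
        (hD.le_of_ge ⟨T, X, fun h5 => hne (le_bot_iff.1 (h5 ▸ (h1.trans_le (le_inf h2 inf_le_left)).le)),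
          hTX, rfl⟩ (h1.trans_le (le_inf h2 inf_le_left)).le)
    have hP1 : (P : Subgroup G) ⊓ Q < P := lt_of_le_of_ne inf_le_left fun h1 =>
      hPQ (Sylow.ext (P.is_maximal' Q.isPGroup' (inf_eq_left.1 h1)).symm)
    have hQ1 : (P : Subgroup G) ⊓ Q < Q := lt_of_le_of_ne inf_le_right fun h1 =>
      hPQ (Sylow.ext (Q.is_maximal' P.isPGroup' (inf_eq_right.1 h1)))
    exact hPQ ((hkey P hP1).symm.trans (hkey Q hQ1))
  obtain ⟨S⟩ : Nonempty (Sylow 2 G) := inferInstance
  have hSne : (S : Subgroup G) ≠ ⊥ := S.ne_bot_of_dvd_card h.two_dvd_card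
  obtain ⟨r, hr, hro⟩ := exists_invol_of_ne_bot S.isPGroup' hSne
  refine h.false_of_stronglyEmbedded (H := normalizer ((S : Subgroup G) : Set G))
    ⟨h.normalizer_ne_top S.isPGroup' hSne, ?_, fun g hg => ?_⟩
  · have h1 := orderOf_dvd_natCard (normalizer ((S : Subgroup G) : Set G)) (le_normalizer hr)
    rw [hro] at h1
    exact even_iff_two_dvd.2 h1
  · by_contra hodd
    rw [Nat.not_odd_iff_even] at hodd
    obtain ⟨t, ht⟩ := Basic.exists_invol (G := ↥(normalizer ((S : Subgroup G) : Set G) ⊓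
      (normalizer ((S : Subgroup G) : Set G)).map (MulAut.conj g).toMonoidHom)) hodd
    have hto : orderOf (t : G) = 2 := by rw [Subgroup.orderOf_coe, ht]
    obtain ⟨htN, htg⟩ := mem_inf.1 t.2
    have hto' : orderOf (g⁻¹ * (t : G) * g) = 2 := by
      have := Basic.orderOf_conj_eq g⁻¹ (t : G)
      rw [inv_inv] at this
      exact this.trans hto
    have h1 := mem_sylow_of_mem_normalizer S hto htN
    have h2 := mem_sylow_of_mem_normalizer S hto' (StronglyEmbedded.mem_conj_iff.1 htg)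
    have h3 : (t : G) ∈ ((g • S : Sylow 2 G) : Subgroup G) := by
      rw [Sylow.coe_subgroup_smul, mem_pointwise_smul_iff_inv_smul_mem]
      simpa [MulAut.smul_def, mul_assoc] using h2
    have h4 : g • S = S := (hTI S (g • S) fun h5 => by
      have h6 : (t : G) ∈ (⊥ : Subgroup G) := h5 ▸ mem_inf.2 ⟨h1, h3⟩
      rw [mem_bot.1 h6, orderOf_one] at hto
      omega).symm
    exact hg (Sylow.smul_eq_iff_mem_normalizer.1 h4)

/-- The 2-rank of a minimal counterexample is at most two. -/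
theorem pRankLE_two : Cfsg.PRankLE 2 2 G := by
  by_contra h3
  haveI : Fact (Nat.Prime 2) := ⟨Nat.prime_two⟩
  obtain ⟨X, -⟩ := Dichotomy34.exists_ctx_of h3 (fun t ht => by
    have hc : Cfsg.IsPConstrained 2 ↥(centralizer ({t} : Set G)) :=
      PSolvable.isPConstrained_of_isPSolvable (h.isPSolvable (h.centralizer_ne_top fun h1 => by
        rw [h1, orderOf_one] at ht; omega))
    exact ⟨FTDeps.Row3110.pLayer_eq_bot_of_isPConstrained hc, hc⟩) (Classical.arbitrary _)
  have hG := h.index_ne_two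
  by_cases hW : X.W = ⊥
  · exact h.false_of_cores fun t ht => X.cores_eq_bot_of_W hG hW ht
  · have hMtop : X.M ≠ ⊤ := by
      intro h1
      haveI : X.W.Normal := normalizer_eq_top_iff.1 h1
      rcases h.normal_eq X.W with h2 | h2
      · exact hW h2
      · have h4 := X.W_odd
        rw [h2, card_top] at h4
        exact (Nat.not_even_iff_odd.2 h4) (even_iff_two_dvd.2 h.two_dvd_card)
    have heven : Even (Nat.card ↥X.M) := by
      have h1 := orderOf_dvd_natCard X.M (X.S_le_M X.hzS)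
      rw [X.orderOf_z] at h1
      exact even_iff_two_dvd.2 h1
    exact h.false_of_stronglyEmbedded (StronglyEmbedded.of_forall_conj hMtop heven
      fun t htM ht g hg => X.conj_mem hG ht htM hg)

end Min

end Cfsg.Agent.Lib.PiHomog3258
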