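import Cfsg.Agent.Lib.PiHomog3258.RankTwo

/-!
# S3258 modulo the configuration with all involutions central in a Sylow 2-subgroup of 2-rank two
-/

set_option autoImplicit false
set_option linter.unusedSectionVars false
set_option linter.style.haveILetI false

namespace Cfsg.Agent.Lib.PiHomog3258

open Subgroup

universe u

/-- The only configuration left: 2-rank two and all involutions central in a Sylow 2-subgroup. -/
def NoCentralFour (π : Set ℕ) : Prop :=
  ∀ (X : Type u) [Group X] [Finite X], Min π X → Cfsg.PRankLE 2 2 X →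
    (∀ S : Sylow 2 X, ∀ w ∈ (S : Subgroup X), orderOf w = 2 →
      ∀ s ∈ (S : Subgroup X), s * w = w * s) → False

variable {G : Type u} [Group G] [Finite G] {π : Set ℕ}

/-- The π-homogeneity used in the library follows from the relative index form. -/
theorem hyp_of_relIndex (h2 : 2 ∈ π)
    (hcl : ∀ H : Subgroup G, (∀ p : ℕ, p.Prime → p ∣ Nat.card ↥H → p ∈ π) →
      ∀ P : Sylow 2 ↥H, (P : Subgroup ↥H).Normal)
    (hhom : ∀ H : Subgroup G, H ≠ ⊥ → (∀ p : ℕ, p.Prime → p ∣ Nat.card ↥H → p ∈ π) →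
      ∀ p : ℕ, p.Prime → p ∣ (centralizer (H : Set G)).relIndex (normalizer (H : Set G)) →
        p ∈ π) :
    Hyp π G := by
  refine ⟨h2, hcl, fun H hH x hx hn => ?_⟩
  by_cases hb : H = ⊥
  · rw [mem_centralizer_iff]
    intro y hy
    rw [hb, coe_bot, Set.mem_singleton_iff] at hy
    rw [hy, one_mul, mul_one]
  set C := (centralizer (H : Set G)).subgroupOf (normalizer (H : Set G)) with hC
  haveI : C.Normal := (normal_subgroupOf_iff (centralizer_le_normalizer _)).2 fun c n hc hn => by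
    rw [mem_centralizer_iff] at hc ⊢
    intro y hy
    have h1 := hc _ ((mem_normalizer_iff''.1 hn y).1 hy)
    calc y * (n * c * n⁻¹) = n * (n⁻¹ * y * n * c) * n⁻¹ := by group
      _ = n * (c * (n⁻¹ * y * n)) * n⁻¹ := by rw [h1]
      _ = n * c * n⁻¹ * y := by group
  have h1 : PiP π (QuotientGroup.mk' C ⟨x, hn⟩) :=
    piP_of_dvd ((orderOf_map_dvd _ _).trans (Subgroup.orderOf_mk x hn).dvd) hx
  have h3 : PiNum π (Nat.card (↥(normalizer (H : Set G)) ⧸ C)) := by
    rw [← index_eq_card]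
    exact hhom H hb hH
  have h4 := eq_one_of_piP h1 (piNum_of_dvd (_root_.orderOf_dvd_natCard _) h3)
  rw [QuotientGroup.mk'_apply, QuotientGroup.eq_one_iff] at h4
  exact mem_subgroupOf.1 h4

/-- The converse implication: a π'-closed group is π-homogeneous. -/
theorem dvd_mem_of_closed {K : Subgroup G}
    (hK : ∀ x : G, x ∈ K ↔ ∀ p : ℕ, p.Prime → p ∣ orderOf x → p ∉ π) {H : Subgroup G}
    (hH : PiNum π (Nat.card ↥H)) {p : ℕ} (hp : p.Prime)
    (hd : p ∣ (centralizer (H : Set G)).relIndex (normalizer (H : Set G))) : p ∈ π := by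
  by_contra hpπ
  haveI := Fact.mk hp
  obtain ⟨P⟩ : Nonempty (Sylow p ↥(normalizer (H : Set G))) := inferInstance
  refine P.not_dvd_index (hd.trans (index_dvd_of_le fun y hy => ?_))
  rw [mem_subgroupOf, mem_centralizer_iff]
  intro z hz
  have hy' : PiP π (y : G) := fun q hq hqd => by
    obtain ⟨k, hk⟩ := P.isPGroup' ⟨y, hy⟩
    have h1 : orderOf (y : G) ∣ p ^ k := by
      rw [orderOf_dvd_iff_pow_eq_one]
      exact congrArg (fun w : ↥(P : Subgroup ↥(normalizer (H : Set G))) => ((w : _) : G)) hk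
    rw [(Nat.prime_dvd_prime_iff_eq hq hp).1 (hq.dvd_of_dvd_pow (hqd.trans h1))]
    exact hpπ
  haveI hKn : K.Normal := ⟨fun w hw g => (hK _).2 (piP_conj g ((hK w).1 hw))⟩
  have h1 : z * (y : G) * z⁻¹ * (y : G)⁻¹ = 1 := by
    refine eq_one_of_piP (π := π) ((hK _).1 (K.mul_mem (hKn.conj_mem _ ((hK _).2 hy') z)
      (inv_mem ((hK _).2 hy')))) (piNum_of_dvd (orderOf_dvd_natCard H ?_) hH)
    rw [mul_assoc z (y : G), mul_assoc z]
    exact mul_mem hz ((mem_normalizer_iff.1 y.2 z⁻¹).1 (inv_mem hz))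
  exact mul_inv_eq_iff_eq_mul.1 (mul_inv_eq_one.1 h1)

/-- S3258 modulo `NoCentralFour`. -/
theorem main (hrest : NoCentralFour.{u} π) (h2 : 2 ∈ π)
    (hcl : ∀ H : Subgroup G, (∀ p : ℕ, p.Prime → p ∣ Nat.card ↥H → p ∈ π) →
      ∀ P : Sylow 2 ↥H, (P : Subgroup ↥H).Normal) :
    (∃ K : Subgroup G, ∀ x : G, x ∈ K ↔ ∀ p : ℕ, p.Prime → p ∣ orderOf x → p ∉ π) ↔
      (∀ H : Subgroup G, H ≠ ⊥ → (∀ p : ℕ, p.Prime → p ∣ Nat.card ↥H → p ∈ π) →
        ∀ p : ℕ, p.Prime → p ∣ (centralizer (H : Set G)).relIndex (normalizer (H : Set G)) →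
          p ∈ π) := by
  constructor
  · rintro ⟨K, hK⟩ H - hH p hp hd
    exact dvd_mem_of_closed hK hH hp hd
  · intro hhom
    obtain ⟨K, hK⟩ := closedIn_top_of_noMin π (fun X _ _ hX => hrest X hX hX.pRankLE_two
      (fun S w hw hwo => by
        obtain ⟨z, t, -, -, -, -, -, hall⟩ := hX.exists_central_four S
        exact (hall w hw hwo).2)) _ G rfl (hyp_of_relIndex h2 hcl hhom)
    exact ⟨K, fun x => ⟨fun hx => ((hK x).1 hx).2, fun hx => (hK x).2 ⟨mem_top x, hx⟩⟩⟩

end Cfsg.Agent.Lib.PiHomog3258
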