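import Cfsg.Agent.Lib.PiHomog3258.Strong

/-!
# The centre of a Sylow 2-subgroup contains a four-group
-/

set_option autoImplicit false
set_option linter.unusedSectionVars false
set_option linter.style.haveILetI false

namespace Cfsg.Agent.Lib.PiHomog3258

open Subgroup
open Cfsg.Agent.Lib.Involutions

universe u

variable {G : Type u} [Group G] [Finite G] {π : Set ℕ}

namespace Min

variable (h : Min π G)
include h

/-- With 2-rank two, the only involutions commuting with a four-group `⟨z, t⟩` centrally are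
`z, t, zt`. -/
theorem mem_four {z t w : G} (hz : orderOf z = 2) (ht : orderOf t = 2) (hw : w ^ 2 = 1)
    (hw1 : w ≠ 1) (hzt : z * t = t * z) (hwz : w * z = z * w) (hwt : w * t = t * w) (hne : t ≠ z) :
    w = z ∨ w = t ∨ w = z * t := by
  haveI : Fact (Nat.Prime 2) := ⟨Nat.prime_two⟩
  have hz2 : z ^ 2 = 1 := by rw [← hz, pow_orderOf_eq_one]
  have ht2 : t ^ 2 = 1 := by rw [← ht, pow_orderOf_eq_one]
  have hmem : ∀ x ∈ zpowers z, x = 1 ∨ x = z := by
    intro x hx
    obtain ⟨n, rfl⟩ := mem_zpowers_iff.1 hx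
    have hz2' : z ^ (2 : ℤ) = 1 := by rw [zpow_two, ← pow_two, hz2]
    rcases Int.even_or_odd n with ⟨m, rfl⟩ | ⟨m, rfl⟩
    · left; rw [← two_mul, zpow_mul, hz2', one_zpow]
    · right; rw [zpow_add, zpow_mul, hz2', one_zpow, one_mul, zpow_one]
  have htn : t ∉ zpowers z := fun h1 => (hmem t h1).elim
    (fun h2 => by rw [h2, orderOf_one] at ht; omega) hne
  obtain ⟨hV, hV4⟩ := FTDeps.Row3110.card_ge_double (PGroups.elemAb_zpowers hz2) ht2 htn
    fun b hb => by
      obtain ⟨n, rfl⟩ := mem_zpowers_iff.1 hb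
      exact ((show Commute z t from hzt).zpow_left n).eq
  rw [Nat.card_zpowers, hz] at hV4
  by_cases hwV : w ∈ zpowers z ⊔ zpowers t
  · have hle : zpowers t ≤ normalizer ((zpowers z : Subgroup G) : Set G) :=
      le_trans (zpowers_le.2 (mem_centralizer_iff.2 fun c hc => by
        obtain ⟨n, rfl⟩ := mem_zpowers_iff.1 hc
        exact ((show Commute z t from hzt).zpow_left n).eq)) (centralizer_le_normalizer _)
    have hwV' : w ∈ ((zpowers z ⊔ zpowers t : Subgroup G) : Set G) := hwV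
    rw [coe_mul_of_right_le_normalizer_left _ _ hle] at hwV'
    · obtain ⟨a, ha, b, hb, rfl⟩ := hwV'
      have hb' : b = 1 ∨ b = t := by
        obtain ⟨n, rfl⟩ := mem_zpowers_iff.1 hb
        have ht2' : t ^ (2 : ℤ) = 1 := by rw [zpow_two, ← pow_two, ht2]
        rcases Int.even_or_odd n with ⟨m, rfl⟩ | ⟨m, rfl⟩
        · left; rw [← two_mul, zpow_mul, ht2', one_zpow]
        · right; rw [zpow_add, zpow_mul, ht2', one_zpow, one_mul, zpow_one]
      rcases hmem a ha with rfl | rfl <;> rcases hb' with rfl | rfl <;> simp_all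
  · exfalso
    obtain ⟨hE, hE8⟩ := FTDeps.Row3110.card_ge_double hV hw hwV fun b hb => by
      have h1 : zpowers z ⊔ zpowers t ≤ centralizer ({w} : Set G) :=
        sup_le (zpowers_le.2 (mem_centralizer_singleton_iff.2 hwz.symm))
          (zpowers_le.2 (mem_centralizer_singleton_iff.2 hwt.symm))
      exact mem_centralizer_singleton_iff.1 (h1 hb)
    have h3 := h.pRankLE_two _ hE.1 hE.2
    omega

/-- A Sylow subgroup whose centre has one involution contains no other conjugate of it. -/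
theorem false_of_unique_central (S : Sylow 2 G) {z : G} (hz : orderOf z = 2)
    (hzc : ∀ s ∈ (S : Subgroup G), s * z = z * s) (hzS : z ∈ (S : Subgroup G))
    (huniq : ∀ w ∈ (S : Subgroup G), orderOf w = 2 →
      (∀ s ∈ (S : Subgroup G), s * w = w * s) → w = z) : False := by
  haveI : Fact (Nat.Prime 2) := ⟨Nat.prime_two⟩
  refine h.false_of_isolated S hz hzS fun g hg => ?_
  by_contra hne
  obtain ⟨t, ht⟩ : ∃ t, t = g * z * g⁻¹ := ⟨_, rfl⟩
  rw [← ht] at hg hne
  have hto : orderOf t = 2 := by rw [ht]; exact (Basic.orderOf_conj_eq g z).trans hz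
  have hzt : z * t = t * z := (hzc t hg).symm
  -- uniqueness is inherited by every Sylow subgroup centred at a conjugate of `z`
  have huniq' : ∀ (c : G) (P : Sylow 2 G), c * z * c⁻¹ ∈ (P : Subgroup G) →
      (∀ s ∈ (P : Subgroup G), s * (c * z * c⁻¹) = c * z * c⁻¹ * s) →
      ∀ w ∈ (P : Subgroup G), orderOf w = 2 →
      (∀ s ∈ (P : Subgroup G), s * w = w * s) → w = c * z * c⁻¹ := by
    intro c P hcP hcc w hwP hwo hwc
    obtain ⟨d, rfl⟩ := MulAction.exists_smul_eq G S P
    have hmem : ∀ s, s ∈ ((d • S : Sylow 2 G) : Subgroup G) ↔ d⁻¹ * s * d ∈ (S : Subgroup G) := by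
      intro s
      rw [Sylow.coe_subgroup_smul, mem_pointwise_smul_iff_inv_smul_mem]
      simp [MulAut.smul_def]
    have key : ∀ w ∈ ((d • S : Sylow 2 G) : Subgroup G), orderOf w = 2 →
        (∀ s ∈ ((d • S : Sylow 2 G) : Subgroup G), s * w = w * s) → d⁻¹ * w * d = z := by
      intro w hwP hwo hwc
      refine huniq _ ((hmem w).1 hwP) ?_ fun s hs => ?_
      · have := Basic.orderOf_conj_eq d⁻¹ w
        rw [inv_inv] at this
        exact this.trans hwo
      · have h1 := hwc (d * s * d⁻¹) ((hmem _).2 (by simpa [mul_assoc] using hs))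
        calc s * (d⁻¹ * w * d) = d⁻¹ * (d * s * d⁻¹ * w) * d := by group
          _ = d⁻¹ * (w * (d * s * d⁻¹)) * d := by rw [h1]
          _ = d⁻¹ * w * d * s := by group
    have h1 := key w hwP hwo hwc
    have h2 := key _ hcP ((Basic.orderOf_conj_eq c z).trans hz) hcc
    have h3 := congrArg (fun x => d * x * d⁻¹) (h1.trans h2.symm)
    simpa [mul_assoc] using h3
  set C := centralizer ({z} : Set G) ⊓ centralizer ({t} : Set G) with hC
  obtain ⟨R₀⟩ : Nonempty (Sylow 2 ↥C) := inferInstance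
  set R := (R₀ : Subgroup ↥C).map C.subtype with hR
  have hRC : R ≤ C := map_subtype_le _
  have hR2 : IsPGroup 2 ↥R := R₀.isPGroup'.map C.subtype
  have hcentral : ∀ v : G, v ∈ C → orderOf v = 2 →
      (∀ c ∈ C, c * v = v * c) → v ∈ R := by
    intro v hv hvo hvc
    have hn : (zpowers (⟨v, hv⟩ : ↥C)).Normal := ⟨fun x hx c => by
      obtain ⟨n, rfl⟩ := mem_zpowers_iff.1 hx
      have hcv : Commute c (⟨v, hv⟩ : ↥C) := Subtype.ext (hvc c c.2)
      rw [(hcv.zpow_right n).eq, mul_inv_cancel_right]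
      exact zpow_mem (mem_zpowers _) n⟩
    haveI := hn
    have hp : IsPGroup 2 ↥(zpowers (⟨v, hv⟩ : ↥C)) :=
      IsPGroup.of_card (n := 1) (by rw [Nat.card_zpowers, Subgroup.orderOf_mk, hvo, pow_one])
    exact ⟨⟨v, hv⟩, hp.le_sylow_of_normal R₀ (mem_zpowers _), rfl⟩
  have hzR : z ∈ R := hcentral z ⟨mem_centralizer_singleton_iff.2 rfl,
    mem_centralizer_singleton_iff.2 hzt⟩ hz fun c hc => mem_centralizer_singleton_iff.1 hc.1
  have htR : t ∈ R := hcentral t ⟨mem_centralizer_singleton_iff.2 hzt.symm,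
    mem_centralizer_singleton_iff.2 rfl⟩ hto fun c hc => mem_centralizer_singleton_iff.1 hc.2
  have hmax : ∀ T : Subgroup G, IsPGroup 2 ↥T → R ≤ T → T ≤ C → T ≤ R := by
    intro T hT hRT hTC x hx
    have h1 : IsPGroup 2 ↥(T.subgroupOf C) := hT.of_equiv (subgroupOfEquivOfLe hTC).symm
    have h2 : (R₀ : Subgroup ↥C) ≤ T.subgroupOf C := fun y hy =>
      mem_subgroupOf.2 (hRT ⟨y, hy, rfl⟩)
    exact ⟨⟨x, hTC hx⟩, (R₀.is_maximal' h1 h2).le (mem_subgroupOf.2 hx), rfl⟩
  -- a swap of the two other involutions, fixing the central involution `a`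
  have hswap : ∀ (a b : G) (cst : G), a = cst * z * cst⁻¹ → orderOf b = 2 → b ≠ a →
      a ∈ R → b ∈ R → a * b = b * a → R ≤ centralizer ({a} : Set G) →
      (∀ x, x * a = a * x → x * b = b * x → x ∈ C) →
      (∀ w ∈ R, orderOf w = 2 → (∀ r ∈ R, r * w = w * r) → w = a ∨ w = b ∨ w = a * b) →
      (∀ r ∈ R, r * a = a * r) → (∀ r ∈ R, r * b = b * r) →
      ∃ x : G, (∃ k : ℕ, orderOf x = 2 ^ k) ∧ x * a * x⁻¹ = a ∧ x * b * x⁻¹ = a * b := by
    intro a b cst ha hbo hba haR hbR hab hRa hCle hW hca hcb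
    have hao : orderOf a = 2 := by rw [ha]; exact (Basic.orderOf_conj_eq cst z).trans hz
    have hR' : IsPGroup 2 ↥(R.subgroupOf (centralizer ({a} : Set G))) :=
      hR2.of_equiv (subgroupOfEquivOfLe hRa).symm
    obtain ⟨Q₀, hQ₀⟩ := hR'.exists_le_sylow
    set Q := (Q₀ : Subgroup ↥(centralizer ({a} : Set G))).map
      (centralizer ({a} : Set G)).subtype with hQ
    have hRQ : R ≤ Q := fun r hr => ⟨⟨r, hRa hr⟩, hQ₀ (mem_subgroupOf.2 hr), rfl⟩
    obtain ⟨P, hP⟩ := (Q₀.isPGroup'.map (centralizer ({a} : Set G)).subtype).exists_le_sylow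
    -- `Q` is a Sylow subgroup of `G`
    have hQP : Q = (P : Subgroup G) := by
      refine eq_of_le_of_card_ge hP ?_
      have h1 : (cst • S : Sylow 2 G).toSubgroup ≤ centralizer ({a} : Set G) := by
        intro s hs
        rw [Sylow.coe_subgroup_smul, mem_pointwise_smul_iff_inv_smul_mem] at hs
        have h2 := hzc (cst⁻¹ * s * cst) (by simpa [MulAut.smul_def] using hs)
        rw [mem_centralizer_singleton_iff, ha]
        calc s * (cst * z * cst⁻¹) = cst * (cst⁻¹ * s * cst * z) * cst⁻¹ := by group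
          _ = cst * (z * (cst⁻¹ * s * cst)) * cst⁻¹ := by rw [h2]
          _ = cst * z * cst⁻¹ * s := by group
      have h3 : IsPGroup 2 ↥((cst • S : Sylow 2 G).toSubgroup.subgroupOf
          (centralizer ({a} : Set G))) :=
        (cst • S).isPGroup'.of_equiv (subgroupOfEquivOfLe h1).symm
      obtain ⟨Q1, hQ1⟩ := h3.exists_le_sylow
      have h4 := card_le_card_group (cst • S : Sylow 2 G).toSubgroup
      calc Nat.card ↥(P : Subgroup G) = Nat.card ↥((cst • S : Sylow 2 G).toSubgroup) := by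
            rw [P.card_eq_multiplicity, (cst • S).card_eq_multiplicity]
        _ = Nat.card ↥((cst • S : Sylow 2 G).toSubgroup.subgroupOf (centralizer ({a} : Set G))) :=
            (Nat.card_congr (subgroupOfEquivOfLe h1).toEquiv).symm
        _ ≤ Nat.card ↥(Q1 : Subgroup ↥(centralizer ({a} : Set G))) := card_le_of_le hQ1
        _ = Nat.card ↥Q := by
            rw [hQ, card_map_of_injective
              (f := (centralizer ({a} : Set G)).subtype) (subtype_injective _),
              Q1.card_eq_multiplicity, Q₀.card_eq_multiplicity]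
    have hRP : R ≤ (P : Subgroup G) := hQP ▸ hRQ
    have hPa : ∀ s ∈ (P : Subgroup G), s * a = a * s := fun s hs =>
      mem_centralizer_singleton_iff.1 (map_subtype_le _ (hQP ▸ hs : s ∈ Q))
    have hlt : R < (P : Subgroup G) := lt_of_le_of_ne hRP fun h1 => by
      have h2 := huniq' cst P (ha ▸ hRP haR) (fun s hs => ha ▸ hPa s hs) b (hRP hbR) hbo
        fun s hs => hcb s (h1 ▸ hs)
      exact hba (h2.trans ha.symm)
    haveI : Group.IsNilpotent ↥(P : Subgroup G) := P.isPGroup'.isNilpotent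
    have hlt' : R.subgroupOf (P : Subgroup G) < ⊤ := lt_top_iff_ne_top.2 fun h2 =>
      hlt.not_ge (subgroupOf_eq_top.1 h2)
    obtain ⟨⟨x, hxP⟩, hxN, hxR⟩ := SetLike.exists_of_lt
      (normalizerCondition_of_isNilpotent _ hlt')
    rw [mem_subgroupOf] at hxR
    have hxN' : x ∈ normalizer (R : Set G) := by
      have h5 := le_normalizer_map (P : Subgroup G).subtype (mem_map_of_mem _ hxN)
      rwa [map_subgroupOf_eq_of_le hRP] at h5
    have hxa : x * a = a * x := hPa x hxP
    have hxb : x * b * x⁻¹ = a * b := by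
      have hmem : x * b * x⁻¹ ∈ R := (mem_normalizer_iff.1 hxN' b).1 hbR
      have hcen : ∀ r ∈ R, r * (x * b * x⁻¹) = x * b * x⁻¹ * r := by
        intro r hr
        have h1 := hcb (x⁻¹ * r * x) ((mem_normalizer_iff''.1 hxN' r).1 hr)
        calc r * (x * b * x⁻¹) = x * (x⁻¹ * r * x * b) * x⁻¹ := by group
          _ = x * (b * (x⁻¹ * r * x)) * x⁻¹ := by rw [h1]
          _ = x * b * x⁻¹ * r := by group
      rcases hW _ hmem ((Basic.orderOf_conj_eq x b).trans hbo) hcen with h1 | h1 | h1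
      · exfalso
        refine hba ?_
        calc b = x⁻¹ * (x * b * x⁻¹) * x := by group
          _ = x⁻¹ * (a * x) := by rw [h1, mul_assoc]
          _ = a := by rw [← hxa, inv_mul_cancel_left]
      · exfalso
        refine hxR (hmax (R ⊔ zpowers x) ?_ le_sup_left ?_ (mem_sup_right (mem_zpowers x)))
        · exact P.isPGroup'.to_le (sup_le hRP (zpowers_le.2 hxP))
        · exact sup_le hRC (zpowers_le.2 (hCle x hxa (mul_inv_eq_iff_eq_mul.1 h1)))
      · exact h1
    refine ⟨x, ?_, by rw [hxa, mul_inv_cancel_right], hxb⟩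
    obtain ⟨k, hk⟩ := P.isPGroup' ⟨x, hxP⟩
    obtain ⟨m, -, hm⟩ := (Nat.dvd_prime_pow Nat.prime_two).1
      (orderOf_dvd_of_pow_eq_one (congrArg Subtype.val hk : x ^ 2 ^ k = 1))
    exact ⟨m, hm⟩
  have hz2 : z * z = 1 := Basic.invol_mul_self hz
  have ht2 : t * t = 1 := Basic.invol_mul_self hto
  obtain ⟨x, hx2, hxz, hxt⟩ := hswap z t 1 (by simp) hto hne hzR htR hzt (fun r hr => (hRC hr).1)
    (fun x h1 h2 => ⟨mem_centralizer_singleton_iff.2 h1, mem_centralizer_singleton_iff.2 h2⟩)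
    (fun w hwR hwo hwc => h.mem_four hz hto (by rw [← hwo, pow_orderOf_eq_one])
      (fun h1 => by rw [h1, orderOf_one] at hwo; omega) hzt (hwc z hzR).symm (hwc t htR).symm hne)
    (fun r hr => mem_centralizer_singleton_iff.1 (hRC hr).1)
    (fun r hr => mem_centralizer_singleton_iff.1 (hRC hr).2)
  obtain ⟨y, hy2, hyt, hyz⟩ := hswap t z g ht hz (Ne.symm hne) htR hzR hzt.symm
    (fun r hr => (hRC hr).2)
    (fun x h1 h2 => ⟨mem_centralizer_singleton_iff.2 h2, mem_centralizer_singleton_iff.2 h1⟩)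
    (fun w hwR hwo hwc => by
      rcases h.mem_four hz hto (by rw [← hwo, pow_orderOf_eq_one])
        (fun h1 => by rw [h1, orderOf_one] at hwo; omega) hzt (hwc z hzR).symm (hwc t htR).symm hne
        with h1 | h1 | h1
      · exact Or.inr (Or.inl h1)
      · exact Or.inl h1
      · exact Or.inr (Or.inr (h1.trans hzt)))
    (fun r hr => mem_centralizer_singleton_iff.1 (hRC hr).2)
    (fun r hr => mem_centralizer_singleton_iff.1 (hRC hr).1)
  -- `x * y` permutes `z, t, z * t` cyclically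
  set V := closure ({z, t} : Set G) with hV
  have hzV : z ∈ V := subset_closure (by simp)
  have htV : t ∈ V := subset_closure (by simp)
  set N := normalizer (V : Set G) with hN
  have hV2 : IsPGroup 2 ↥V := hR2.to_le ((closure_le _).2 (by
    rintro w (rfl | rfl)
    · exact hzR
    · exact htR))
  have hVne : V ≠ ⊥ := fun h1 => by
    have : z = 1 := mem_bot.1 (h1 ▸ hzV)
    rw [this, orderOf_one] at hz
    omega
  have hVN : ∀ w : G, w * z * w⁻¹ ∈ V → w * t * w⁻¹ ∈ V → w ∈ N := by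
    intro w h1 h2
    refine mem_normalizer_fintype fun n hn => ?_
    have : V ≤ V.comap (MulAut.conj w).toMonoidHom := (closure_le _).2 (by
      rintro v (rfl | rfl)
      · exact h1
      · exact h2)
    exact this hn
  have hxN : x ∈ N := hVN x (by rw [hxz]; exact hzV) (by rw [hxt]; exact mul_mem hzV htV)
  have hyN : y ∈ N := hVN y (by rw [hyz]; exact mul_mem htV hzV) (by rw [hyt]; exact htV)
  obtain ⟨K, hK⟩ := h.proper N (h.normalizer_ne_top hV2 hVne)
  have hVπ : PiNum π (Nat.card ↥V) := by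
    obtain ⟨n, hn⟩ := IsPGroup.iff_card.1 hV2
    rw [hn]
    exact piNum_pow Nat.prime_two h.hyp.two n
  set M := K.subgroupOf N with hM
  haveI hMn : M.Normal := ⟨fun a ha b => by
    rw [hM, mem_subgroupOf] at ha ⊢
    exact (hK _).2 ⟨(b * a * b⁻¹).2, by
      push_cast
      exact piP_conj (b : G) ((hK _).1 ha).2⟩⟩
  have hMp : ∀ a ∈ M, PiP π a := fun a ha =>
    piP_of_dvd (Subgroup.orderOf_coe a).symm.dvd ((hK _).1 ha).2
  have hQ := (h.hyp.subgroup N).quotient M hMp
  have hπ : PiNum π (Nat.card (↥N ⧸ M)) := by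
    rw [← index_eq_card]
    exact ClosedIn.piNum_relIndex hK
  obtain ⟨P⟩ : Nonempty (Sylow 2 (↥N ⧸ M)) := inferInstance
  have hPn : (P : Subgroup (↥N ⧸ M)).Normal := by
    have e := (Subgroup.topEquiv : (⊤ : Subgroup (↥N ⧸ M)) ≃* _)
    exact sylow_normal_of_surjective e.toMonoidHom e.surjective
      (hQ.closed ⊤ (by rwa [card_top])) P
  have hmemP : ∀ (w : G) (hw : w ∈ N), (∃ k : ℕ, orderOf w = 2 ^ k) →
      QuotientGroup.mk' M ⟨w, hw⟩ ∈ (P : Subgroup (↥N ⧸ M)) := by
    rintro w hw ⟨k, hk⟩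
    have hp : IsPGroup 2 ↥(zpowers (QuotientGroup.mk' M ⟨w, hw⟩)) := by
      have h1 : orderOf (QuotientGroup.mk' M ⟨w, hw⟩) ∣ 2 ^ k := by
        rw [← hk, ← Subgroup.orderOf_mk w hw]
        exact orderOf_map_dvd _ _
      obtain ⟨m, -, hm⟩ := (Nat.dvd_prime_pow Nat.prime_two).1 h1
      exact IsPGroup.of_card (n := m) (by rw [Nat.card_zpowers, hm])
    obtain ⟨Q', hQ'⟩ := hp.exists_le_sylow
    haveI := Sylow.unique_of_normal P hPn
    rw [Subsingleton.elim Q' P] at hQ'
    exact hQ' (mem_zpowers _)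
  set w : ↥N := ⟨x, hxN⟩ * ⟨y, hyN⟩ with hw
  obtain ⟨k, hk⟩ := P.isPGroup' ⟨_, mul_mem (hmemP x hxN hx2) (hmemP y hyN hy2)⟩
  have hk' : w ^ 2 ^ k ∈ M := by
    rw [← QuotientGroup.eq_one_iff, QuotientGroup.mk_pow]
    exact congrArg Subtype.val hk
  have hfix : (x * y) ^ 2 ^ k ∈ centralizer ({z} : Set G) := by
    have h1 : ((w ^ 2 ^ k : ↥N) : G) ∈ K := mem_subgroupOf.1 hk'
    rw [mem_centralizer_singleton_iff]
    have h2 := h.hyp.commute hVπ ((hK _).1 h1).2 ((hK _).1 h1).1 hzV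
    simpa [hw] using h2.symm
  have c1 : (x * y) * z * (x * y)⁻¹ = t := by
    calc (x * y) * z * (x * y)⁻¹ = x * (y * z * y⁻¹) * x⁻¹ := by group
      _ = x * (t * z) * x⁻¹ := by rw [hyz]
      _ = (x * t * x⁻¹) * (x * z * x⁻¹) := by group
      _ = z * t * z := by rw [hxt, hxz]
      _ = t * (z * z) := by rw [hzt, mul_assoc]
      _ = t := by rw [hz2, mul_one]
  have c2 : (x * y) * t * (x * y)⁻¹ = z * t := by
    calc (x * y) * t * (x * y)⁻¹ = x * (y * t * y⁻¹) * x⁻¹ := by group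
      _ = z * t := by rw [hyt, hxt]
  have c3 : (x * y) * (z * t) * (x * y)⁻¹ = z := by
    calc (x * y) * (z * t) * (x * y)⁻¹
        = ((x * y) * z * (x * y)⁻¹) * ((x * y) * t * (x * y)⁻¹) := by group
      _ = t * (z * t) := by rw [c1, c2]
      _ = z := by rw [hzt, ← mul_assoc, ht2, one_mul]
  have h3 : (x * y) ^ 3 ∈ centralizer ({z} : Set G) := by
    rw [mem_centralizer_singleton_iff, ← mul_inv_eq_iff_eq_mul]
    calc (x * y) ^ 3 * z * ((x * y) ^ 3)⁻¹
        = (x * y) * ((x * y) * ((x * y) * z * (x * y)⁻¹) * (x * y)⁻¹) * (x * y)⁻¹ := by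
          rw [pow_succ, pow_two]; group
      _ = z := by rw [c1, c2, c3]
  have hcop : Nat.gcd (2 ^ k) 3 = 1 :=
    Nat.Coprime.pow_left k (by decide)
  have h4 : x * y ∈ centralizer ({z} : Set G) := by
    have h5 := Nat.gcd_eq_gcd_ab (2 ^ k) 3
    rw [hcop] at h5
    have h6 : (x * y) ^ ((1 : ℕ) : ℤ) ∈ centralizer ({z} : Set G) := by
      rw [h5, zpow_add, zpow_mul, zpow_mul, zpow_natCast, zpow_natCast]
      exact mul_mem (zpow_mem hfix _) (zpow_mem h3 _)
    simpa using h6
  rw [mem_centralizer_singleton_iff] at h4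
  rw [h4, mul_inv_cancel_right] at c1
  exact hne c1.symm

/-- All involutions of a Sylow 2-subgroup are central and form a four-group. -/
theorem exists_central_four (S : Sylow 2 G) :
    ∃ z t : G, z ∈ (S : Subgroup G) ∧ t ∈ (S : Subgroup G) ∧ orderOf z = 2 ∧ orderOf t = 2 ∧ t ≠ z ∧
      ∀ w ∈ (S : Subgroup G), orderOf w = 2 →
        (w = z ∨ w = t ∨ w = z * t) ∧ ∀ s ∈ (S : Subgroup G), s * w = w * s := by
  haveI : Fact (Nat.Prime 2) := ⟨Nat.prime_two⟩
  have hSne : (S : Subgroup G) ≠ ⊥ := S.ne_bot_of_dvd_card h.two_dvd_card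
  haveI : Nontrivial ↥(S : Subgroup G) := (Subgroup.nontrivial_iff_ne_bot _).2 hSne
  obtain ⟨z, hzm, hz⟩ := exists_invol_of_ne_bot
    ((S.isPGroup'.to_subgroup (center ↥(S : Subgroup G))).map (S : Subgroup G).subtype)
    (fun h1 => (Subgroup.nontrivial_iff_ne_bot _).1 S.isPGroup'.center_nontrivial
      ((map_eq_bot_iff_of_injective _ (S : Subgroup G).subtype_injective).1 h1))
  obtain ⟨z', hz', rfl⟩ := hzm
  have hzc : ∀ s ∈ (S : Subgroup G), s * z'.1 = z'.1 * s := fun s hs =>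
    congrArg Subtype.val (mem_center_iff.1 hz' ⟨s, hs⟩)
  by_cases huniq : ∀ w ∈ (S : Subgroup G), orderOf w = 2 →
      (∀ s ∈ (S : Subgroup G), s * w = w * s) → w = z'.1
  · exact (h.false_of_unique_central S hz hzc z'.2 huniq).elim
  push Not at huniq
  obtain ⟨t, htS, hto, htc, htz⟩ := huniq
  refine ⟨z'.1, t, z'.2, htS, hz, hto, htz, fun w hwS hwo => ?_⟩
  have h1 := h.mem_four hz hto (by rw [← hwo, pow_orderOf_eq_one])
    (fun h2 => by rw [h2, orderOf_one] at hwo; omega) (htc _ z'.2) (hzc w hwS) (htc w hwS) htz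
  refine ⟨h1, fun s hs => ?_⟩
  rcases h1 with rfl | rfl | rfl
  · exact hzc s hs
  · exact htc s hs
  · exact ((show Commute s z'.1 from hzc s hs).mul_right (show Commute s t from htc s hs)).eq

end Min

end Cfsg.Agent.Lib.PiHomog3258
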